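import Cfsg.Agent.H746.MEleven.Main
import Cfsg.Agent.H546.MElevenA

/-!
# The centraliser of a good element of order 11 of the Monster (helper746, for `(M, 11)`, S2120)

* `facts` : the facts of `H546.MElevenA` in the form used here;
* `card_cent_zz`, `card_cent_good` : `|C(x)| = 11 * 95040` and `C(x) / ⟨x⟩` is simple, `x` of order 11 commuting with an
  involution.
-/

set_option autoImplicit false

namespace Cfsg.Agent.H746.MEleven

open Subgroup Cfsg Cfsg.Agent.OrdDiv Cfsg.Agent.BpSpor.MBig Cfsg.Agent.BpSpor.MBigModel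
open Cfsg.Agent.H546

/-- **The facts.** -/
theorem facts {x : MG} (hx : orderOf x = 11) (hz : x * zz = zz * x)
    (hD : ¬ 2 ^ 7 ∣ Nat.card ↥(centralizer ({zz} : Set MG) ⊓ centralizer ({x} : Set MG))) : Facts zz x := by
  have hp2 : Fact (Nat.Prime 2) := ⟨Nat.prime_two⟩
  refine ⟨hD, fun N hN hn hodd h11 => MElevenA.odd_normal hx hz hN hn hodd h11, MElevenA.T x,
    IsPGroup.of_card (n := 5) (by rw [MElevenA.card_T hx hz]; norm_num), MElevenA.T_le x, MElevenA.zz_mem_T hz,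
    by rw [MElevenA.card_T hx hz]; norm_num, ?_, ?_, ?_⟩
  · obtain ⟨a, ha, b, hb, h⟩ := MElevenA.exists_comm hx hz
    refine ⟨a, ha, b, hb, fun he => zz_ne ?_⟩
    rw [he] at h
    exact (mul_eq_left.1 h.symm)
  · rintro g hg ⟨k, hk⟩ hgT
    exact MElevenA.two_comm hx hz hg hk hgT
  · obtain ⟨y, hy, -, hyz, -, h1, h2⟩ := MElevenA.exists_four hx hz
    have h3 : y * zz = zz * y := (MElevenA.mem_D.1 (MElevenA.T_le x hy)).1
    refine ⟨y, hy, hyz, h1, ?_⟩
    rw [← h3]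
    exact h2

section

variable (TB : OrderTable.{0}) (hS : ∀ (X : Type) [Group X] [Finite X] [IsSimpleGroup X], IsKnownSimple' X)
  (hD : ∀ x : MG, orderOf x = 11 → x * zz = zz * x →
    ¬ 2 ^ 7 ∣ Nat.card ↥(centralizer ({zz} : Set MG) ⊓ centralizer ({x} : Set MG)))

include TB hS hD

theorem card_cent_zz' {x : MG} (hx : orderOf x = 11) (hz : x * zz = zz * x)
    (hxm : x ∈ centralizer ({x} : Set MG)) [hxn : (zpowers (⟨x, hxm⟩ : ↥(centralizer ({x} : Set MG)))).Normal] :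
    Nat.card ↥(centralizer ({x} : Set MG)) = 11 * 95040 ∧
      IsSimpleGroup (↥(centralizer ({x} : Set MG)) ⧸ zpowers (⟨x, hxm⟩ : ↥(centralizer ({x} : Set MG)))) := by
  have hfin := finite
  exact card_cent TB hS card_M orderOf_zz (fun x hx hz => facts hx hz (hD x hx hz))
    (fun v hv => not_sq (Or.inl rfl) hv) hx (Cfsg.Agent.BpSpor.MBigEleven.noTwo hx) hz hxm

omit TB hS hD in
/-- transport along a conjugation -/
theorem transport {G : Type} [Group G] {x y g : G} (hg : g * y * g⁻¹ = x)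
    (hxm : x ∈ centralizer ({x} : Set G)) [hxn : (zpowers (⟨x, hxm⟩ : ↥(centralizer ({x} : Set G)))).Normal]
    (hym : y ∈ centralizer ({y} : Set G)) [hyn : (zpowers (⟨y, hym⟩ : ↥(centralizer ({y} : Set G)))).Normal]
    (h : IsSimpleGroup (↥(centralizer ({y} : Set G)) ⧸ zpowers (⟨y, hym⟩ : ↥(centralizer ({y} : Set G))))) :
    Nat.card ↥(centralizer ({x} : Set G)) = Nat.card ↥(centralizer ({y} : Set G)) ∧
      IsSimpleGroup (↥(centralizer ({x} : Set G)) ⧸ zpowers (⟨x, hxm⟩ : ↥(centralizer ({x} : Set G)))) := by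
  subst hg
  have hmap : (centralizer ({y} : Set G)).map (MulAut.conj g).toMonoidHom = centralizer ({g * y * g⁻¹} : Set G) := by
    ext c
    rw [mem_centralizer_singleton_iff]
    constructor
    · rintro ⟨a, ha, rfl⟩
      have h1 : a * y = y * a := mem_centralizer_singleton_iff.1 ha
      show g * a * g⁻¹ * (g * y * g⁻¹) = g * y * g⁻¹ * (g * a * g⁻¹)
      calc g * a * g⁻¹ * (g * y * g⁻¹) = g * (a * y) * g⁻¹ := by group
        _ = g * (y * a) * g⁻¹ := by rw [h1]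
        _ = _ := by group
    · intro h1
      refine ⟨g⁻¹ * c * g, mem_centralizer_singleton_iff.2 ?_, ?_⟩
      · calc g⁻¹ * c * g * y = g⁻¹ * (c * (g * y * g⁻¹)) * g := by group
          _ = g⁻¹ * (g * y * g⁻¹ * c) * g := by rw [h1]
          _ = _ := by group
      · show g * (g⁻¹ * c * g) * g⁻¹ = c
        group
  let e : ↥(centralizer ({y} : Set G)) ≃* ↥(centralizer ({g * y * g⁻¹} : Set G)) :=
    ((centralizer ({y} : Set G)).equivMapOfInjective (MulAut.conj g).toMonoidHom (MulAut.conj g).injective).trans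
      (MulEquiv.subgroupCongr hmap)
  have he : e ⟨y, hym⟩ = ⟨g * y * g⁻¹, hxm⟩ := Subtype.ext rfl
  refine ⟨(Nat.card_congr e.toEquiv).symm, ?_⟩
  have h2 : (zpowers (⟨y, hym⟩ : ↥(centralizer ({y} : Set G)))).map (e : _ →* _) =
      zpowers (⟨g * y * g⁻¹, hxm⟩ : ↥(centralizer ({g * y * g⁻¹} : Set G))) := by
    rw [MonoidHom.map_zpowers]
    exact congrArg zpowers he
  exact (QuotientGroup.congr _ _ e h2).symm.isSimpleGroup

theorem card_cent_good' {x v : MG} (hx : orderOf x = 11) (hv : orderOf v = 2) (hxv : x * v = v * x)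
    (hxm : x ∈ centralizer ({x} : Set MG)) [hxn : (zpowers (⟨x, hxm⟩ : ↥(centralizer ({x} : Set MG)))).Normal] :
    Nat.card ↥(centralizer ({x} : Set MG)) = 11 * 95040 ∧
      IsSimpleGroup (↥(centralizer ({x} : Set MG)) ⧸ zpowers (⟨x, hxm⟩ : ↥(centralizer ({x} : Set MG)))) := by
  obtain ⟨g, hg⟩ := Cfsg.Agent.BpSpor.MBigEleven.comm_z hx hv hxv
  have h1 : (g⁻¹ * x * g) * zz = zz * (g⁻¹ * x * g) := by
    calc (g⁻¹ * x * g) * zz = g⁻¹ * (x * (g * zz * g⁻¹)) * g := by group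
      _ = g⁻¹ * ((g * zz * g⁻¹) * x) * g := by rw [hg]
      _ = zz * (g⁻¹ * x * g) := by group
  have hx' : orderOf (g⁻¹ * x * g) = 11 := by
    have e : g⁻¹ * x * g = MulAut.conj g⁻¹ x := by rw [MulAut.conj_apply, inv_inv]
    rw [e, MulEquiv.orderOf_eq, hx]
  have hym : g⁻¹ * x * g ∈ centralizer ({g⁻¹ * x * g} : Set MG) := mem_centralizer_singleton_iff.2 rfl
  have hyn : (zpowers (⟨g⁻¹ * x * g, hym⟩ : ↥(centralizer ({g⁻¹ * x * g} : Set MG)))).Normal := by
    refine ⟨fun n hn c => ?_⟩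
    obtain ⟨k, rfl⟩ := mem_zpowers_iff.1 hn
    have h2 : c * (⟨g⁻¹ * x * g, hym⟩ : ↥(centralizer ({g⁻¹ * x * g} : Set MG))) = ⟨g⁻¹ * x * g, hym⟩ * c :=
      Subtype.ext (mem_centralizer_singleton_iff.1 c.2)
    have h3 : Commute c (⟨g⁻¹ * x * g, hym⟩ : ↥(centralizer ({g⁻¹ * x * g} : Set MG))) := h2
    rw [(h3.zpow_right k).eq, mul_inv_cancel_right]
    exact hn
  have h4 := card_cent_zz' TB hS hD hx' h1 hym
  have h5 := transport (x := x) (y := g⁻¹ * x * g) (g := g) (by group) hxm hym h4.2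
  exact ⟨h5.1.trans h4.1, h5.2⟩

end

end Cfsg.Agent.H746.MEleven
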