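import Cfsg.Agent.BpSpor.MBigTool
import Cfsg.Agent.H49.SPSimple

/-!
# The structure of the centraliser of an element of order `p` (helper746, for `(M, 11)`, S2120)

`H` finite, `x` central of order `p`, `p² ∥ |H|`, the centralisers of involutions have order not divisible by `p²`, a
four-group whose involutions have small core. Then `H / ⟨x⟩` has a simple normal subgroup with trivial centraliser.
-/

set_option autoImplicit false

namespace Cfsg.Agent.H746.MEleven

open Subgroup Cfsg Cfsg.Agent.Lib Cfsg.Agent.BpSpor.MBig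

universe u

variable {H : Type u} [Group H] [Finite H] {p : ℕ} [hp : Fact p.Prime]

/-- **The core has odd order.** -/
theorem odd_core' (hp2 : p ≠ 2) (hsq : p ^ 2 ∣ Nat.card H)
    (ha : ∀ t : H, orderOf t = 2 → ¬ p ^ 2 ∣ Nat.card ↥(centralizer ({t} : Set H)))
    (hb : NoTwo p H) : Odd (Nat.card ↥(pPrimeCore p H)) := by
  have hOn := Cores.pPrimeCore_normal (G := H) p
  have hOc := Cores.pPrimeCore_coprime (G := H) p
  have : Fact (Nat.Prime 2) := ⟨Nat.prime_two⟩
  by_contra hodd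
  rw [Nat.not_odd_iff_even] at hodd
  set O := pPrimeCore p H with hO
  obtain ⟨P⟩ : Nonempty (Sylow 2 ↥O) := inferInstance
  set P' : Subgroup H := (P : Subgroup ↥O).map O.subtype with hP'
  have hP2 : IsPGroup 2 ↥P' := P.2.map _
  have hP1 : P' ≠ ⊥ := by
    intro h
    rw [hP', map_eq_bot_iff_of_injective _ O.subtype_injective] at h
    have h1 := P.card_eq_multiplicity
    rw [h, card_bot] at h1
    have h2 : 2 ^ 1 ∣ 2 ^ (Nat.card ↥O).factorization 2 := by
      refine pow_dvd_pow 2 ?_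
      exact (Nat.prime_two.dvd_iff_one_le_factorization Nat.card_pos.ne').1 hodd.two_dvd
    rw [← h1] at h2
    norm_num at h2
  obtain ⟨t, htA, ht⟩ := exists_omegaZ hP2 hP1
  set N := normalizer (P' : Set H) with hN
  have htop : N ⊔ O = ⊤ := Sylow.normalizer_sup_eq_top P
  have hmap : N.map (QuotientGroup.mk' O) = ⊤ := by
    rw [eq_top_iff]
    rintro y -
    obtain ⟨h, rfl⟩ := QuotientGroup.mk'_surjective _ y
    have h1 : h ∈ N ⊔ O := htop ▸ mem_top h
    rw [mem_sup_of_normal_right] at h1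
    obtain ⟨n, hn, o, ho, rfl⟩ := h1
    refine ⟨n, hn, ?_⟩
    rw [map_mul, show QuotientGroup.mk' O o = 1 from (QuotientGroup.eq_one_iff o).2 ho, mul_one]
  have hdvd : p ^ 2 ∣ Nat.card ↥N := by
    have h1 : p ^ 2 ∣ Nat.card (H ⧸ O) := by
      have h3 : Nat.card H = Nat.card (H ⧸ O) * Nat.card ↥O := card_eq_card_quotient_mul_card_subgroup _
      rw [h3] at hsq
      exact (Nat.Coprime.pow_left 2 hOc.symm).dvd_of_dvd_mul_right hsq
    have h2 : Nat.card ↥(N.map (QuotientGroup.mk' O)) = Nat.card (H ⧸ O) := by rw [hmap, card_top]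
    rw [← h2] at h1
    exact h1.trans (card_map_dvd _ _)
  obtain ⟨Y, hY⟩ := Sylow.exists_subgroup_card_pow_prime p hdvd
  set Y' : Subgroup H := Y.map N.subtype with hY'
  have hYc : Nat.card ↥Y' = p ^ 2 := by rw [hY', card_map_of_injective N.subtype_injective, hY]
  have hYN : Y' ≤ N := map_subtype_le Y
  refine ha t ht ?_
  rw [← hYc]
  apply card_dvd_of_le
  intro y hy
  have hyp : ∃ n, y ^ p ^ n = 1 := by
    have h1 : (⟨y, hy⟩ : ↥Y') ^ Nat.card ↥Y' = 1 := pow_card_eq_one'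
    rw [hYc] at h1
    exact ⟨2, congrArg Subtype.val h1⟩
  obtain ⟨n, hn⟩ := hyp
  have hA2 : IsPGroup 2 ↥(omegaZ P') := by
    rintro ⟨a, ha⟩
    refine ⟨1, Subtype.ext ?_⟩
    show a ^ 2 ^ 1 = 1
    rw [pow_one, pow_two, ha.2.1]
  have h1 := BpSpor.Arith.cent_of_index (p := p) hp.out hn Nat.prime_two (Ne.symm hp2) hA2
    (norm_omegaZ P' (hYN hy)) (fun m hm hmd _ => hb (omegaZ P') (fun a ha => ha.2.1) m hm hmd)
  exact mem_centralizer_singleton_iff.2 (mem_centralizer_singleton_iff.1 (h1 htA)).symm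

/-- The fixed points in the core of an involution with small core in its centraliser. -/
theorem inverts (hodd : Odd (Nat.card ↥(pPrimeCore p H))) {z : H} (hzz : z * z = 1)
    (hc : ∀ N : Subgroup H, N ≤ centralizer ({z} : Set H) → (∀ c : H, c * z = z * c → ∀ n ∈ N, c * n * c⁻¹ ∈ N) →
      Odd (Nat.card ↥N) → ¬ p ∣ Nat.card ↥N → N = ⊥) : ∀ o ∈ pPrimeCore p H, z * o * z⁻¹ = o⁻¹ := by
  have hOn := Cores.pPrimeCore_normal (G := H) p
  have hOc := Cores.pPrimeCore_coprime (G := H) p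
  have h1 : pPrimeCore p H ⊓ centralizer ({z} : Set H) = ⊥ := by
    refine hc _ inf_le_right ?_ ?_ ?_
    · rintro c hcz n ⟨hn, hnz⟩
      refine ⟨hOn.conj_mem n hn c, mem_centralizer_singleton_iff.2 ?_⟩
      have h2 : n * z = z * n := mem_centralizer_singleton_iff.1 hnz
      have h3 : c⁻¹ * z = z * c⁻¹ := by
        rw [inv_mul_eq_iff_eq_mul, ← mul_assoc, hcz, mul_inv_cancel_right]
      calc c * n * c⁻¹ * z = c * n * (c⁻¹ * z) := by group
        _ = c * (n * z) * c⁻¹ := by rw [h3]; group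
        _ = c * z * n * c⁻¹ := by rw [h2]; group
        _ = z * (c * n * c⁻¹) := by rw [hcz]; group
    · exact Odd.of_dvd_nat hodd (card_dvd_of_le inf_le_left)
    · intro hd
      exact (Nat.Prime.coprime_iff_not_dvd hp.out).1 hOc.symm (hd.trans (card_dvd_of_le inf_le_left))
  refine inv_of_fpf hOn hzz fun o ho hoz => ?_
  have h2 : o ∈ pPrimeCore p H ⊓ centralizer ({z} : Set H) := ⟨ho, mem_centralizer_singleton_iff.2 hoz⟩
  rwa [h1, mem_bot] at h2

omit [Finite H] in
/-- A normal subgroup of odd order inverted by `z`, `z'` and `z z'` is trivial. -/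
theorem bot_of_inverted {W : Subgroup H} (hodd : Odd (Nat.card ↥W)) {z z' : H}
    (h1 : ∀ o ∈ W, z * o * z⁻¹ = o⁻¹) (h2 : ∀ o ∈ W, z' * o * z'⁻¹ = o⁻¹)
    (h3 : ∀ o ∈ W, (z * z') * o * (z * z')⁻¹ = o⁻¹) : W = ⊥ := by
  rw [eq_bot_iff]
  intro w hw
  have h4 : (z * z') * w * (z * z')⁻¹ = w := by
    calc (z * z') * w * (z * z')⁻¹ = z * (z' * w * z'⁻¹) * z⁻¹ := by group
      _ = w := by rw [h2 w hw, h1 _ (inv_mem hw), inv_inv]
  rw [h3 w hw] at h4
  have h5 : w * w = 1 := by
    nth_rewrite 1 [← h4]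
    exact inv_mul_cancel w
  obtain ⟨k, hk⟩ := hodd
  have h6 : w ^ Nat.card ↥W = 1 := by
    have : (⟨w, hw⟩ : ↥W) ^ Nat.card ↥W = 1 := pow_card_eq_one'
    exact congrArg Subtype.val this
  rw [hk, pow_succ, pow_mul, pow_two, h5, one_pow, one_mul] at h6
  exact mem_bot.2 h6

/-- `O_p(H) = ⟨x⟩` -/
theorem pCore_eq (hp2 : p ≠ 2) {x : H} (hx : orderOf x = p) (hxc : x ∈ center H) (hcu : ¬ p ^ 3 ∣ Nat.card H)
    {z z' : H} (hz : orderOf z = 2) (hz' : orderOf z' = 2) (hzz' : orderOf (z * z') = 2)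
    (ha : ∀ t : H, orderOf t = 2 → ¬ p ^ 2 ∣ Nat.card ↥(centralizer ({t} : Set H))) :
    pCore p H = zpowers x := by
  have hxn : (zpowers x).Normal := by
    refine ⟨?_⟩
    rintro _ ⟨k, rfl⟩ g
    refine ⟨k, ?_⟩
    show x ^ k = g * x ^ k * g⁻¹
    rw [mem_center_iff.1 (zpow_mem hxc k) g, mul_inv_cancel_right]
  have hxp : IsPGroup p ↥(zpowers x) := IsPGroup.of_card (n := 1) (by rw [Nat.card_zpowers, hx, pow_one])
  have hle : zpowers x ≤ pCore p H := Cores.le_pCore hxn hxp
  have hRp := Cores.pCore_isPGroup (G := H) p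
  have hRn := Cores.pCore_normal (G := H) p
  set R := pCore p H with hR
  obtain ⟨n, hn⟩ := IsPGroup.iff_card.1 hRp
  have hn3 : n ≤ 2 := by
    by_contra hcon
    push Not at hcon
    apply hcu
    refine (pow_dvd_pow p hcon).trans ?_
    rw [← hn]
    exact card_subgroup_dvd_card R
  have hxc' : ∀ c ∈ zpowers x, ∀ h : H, h * c = c * h := fun c hc h =>
    mem_center_iff.1 (zpowers_le.2 hxc hc) h
  by_cases hn2 : n = 2
  swap
  · refine (eq_of_le_of_card_ge hle ?_).symm
    rw [Nat.card_zpowers, hx, hn]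
    calc p ^ n ≤ p ^ 1 := Nat.pow_le_pow_right hp.out.pos (by omega)
      _ = p := pow_one p
  exfalso
  subst hn2
  have hcomm : ∀ a ∈ R, ∀ b ∈ R, a * b = b * a := by
    have := IsPGroup.isMulCommutative_of_card_eq_prime_sq hn
    intro a ha' b hb'
    exact congrArg Subtype.val (this.is_comm.comm ⟨a, ha'⟩ ⟨b, hb'⟩)
  -- the involutions
  have key : ∀ v : H, orderOf v = 2 → ∀ r ∈ R, r * (v * r * v⁻¹) ∈ zpowers x := by
    intro v hv r hr
    have hvv : v * v = 1 := by
      rw [← pow_two, ← hv, pow_orderOf_eq_one]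
    have hvi : v⁻¹ = v := inv_eq_of_mul_eq_one_left hvv
    have h1 : R ⊓ centralizer ({v} : Set H) = zpowers x := by
      have h2 : zpowers x ≤ R ⊓ centralizer ({v} : Set H) := by
        refine le_inf hle ?_
        intro c hc
        exact mem_centralizer_singleton_iff.2 (hxc' c hc v).symm
      refine (eq_of_le_of_card_ge h2 ?_).symm
      obtain ⟨m, hm⟩ := IsPGroup.iff_card.1 (hRp.to_le (inf_le_left : R ⊓ centralizer ({v} : Set H) ≤ R))
      rw [Nat.card_zpowers, hx, hm]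
      have hm1 : m ≤ 1 := by
        by_contra hcon
        push Not at hcon
        refine ha v hv ((pow_dvd_pow p hcon).trans ?_)
        rw [← hm]
        exact card_dvd_of_le inf_le_right
      calc p ^ m ≤ p ^ 1 := Nat.pow_le_pow_right hp.out.pos hm1
        _ = p := pow_one p
    rw [← h1]
    have h2 : v * r * v⁻¹ ∈ R := hRn.conj_mem r hr v
    refine ⟨mul_mem hr h2, mem_centralizer_singleton_iff.2 ?_⟩
    calc r * (v * r * v⁻¹) * v = r * (v * r) := by group
      _ = v * (v⁻¹ * r * v) * r := by group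
      _ = v * ((v * r * v⁻¹) * r) := by rw [hvi]; group
      _ = v * (r * (v * r * v⁻¹)) := by rw [hcomm _ h2 _ hr]
  have hsq : ∀ r ∈ R, r * r ∈ zpowers x := by
    intro r hr
    have h1 := key z' hz' r hr
    have h2 := key z hz _ (hRn.conj_mem r hr z')
    have h3 := key (z * z') hzz' r hr
    have e1 : z' * r * z'⁻¹ * (z * (z' * r * z'⁻¹) * z⁻¹) = z' * r * z'⁻¹ * (z * z' * r * (z * z')⁻¹) := by group
    rw [e1] at h2
    -- `r s ∈ ⟨x⟩`, `s t ∈ ⟨x⟩`, `r t ∈ ⟨x⟩`
    set s := z' * r * z'⁻¹ with hs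
    set t := z * z' * r * (z * z')⁻¹ with ht
    have hsR : s ∈ R := hRn.conj_mem r hr z'
    have htR : t ∈ R := hRn.conj_mem r hr (z * z')
    have h4 : (r * s) * (r * t) * (s * t)⁻¹ ∈ zpowers x := mul_mem (mul_mem h1 h3) (inv_mem h2)
    have h5 : (r * s) * (r * t) * (s * t)⁻¹ = r * r := by
      calc (r * s) * (r * t) * (s * t)⁻¹ = r * (s * r) * t * (s * t)⁻¹ := by group
        _ = r * (r * s) * t * (s * t)⁻¹ := by rw [hcomm s hsR r hr]
        _ = r * r := by group
    rwa [h5] at h4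
  have hle2 : R ≤ zpowers x := by
    intro r hr
    have hodd : Odd (Nat.card ↥R) := by
      rw [hn]
      exact (hp.out.odd_of_ne_two hp2).pow
    obtain ⟨k, hk⟩ := hodd
    have h6 : r ^ Nat.card ↥R = 1 := by
      have : (⟨r, hr⟩ : ↥R) ^ Nat.card ↥R = 1 := pow_card_eq_one'
      exact congrArg Subtype.val this
    have h7 : r = (r * r) ^ (k + 1) := by
      rw [← pow_two, ← pow_mul, show 2 * (k + 1) = Nat.card ↥R + 1 by omega, pow_succ, h6, one_mul]
    rw [h7]
    exact pow_mem (hsq r hr) _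
  have h8 := card_le_of_le hle2
  rw [hn, Nat.card_zpowers, hx] at h8
  have := hp.out.one_lt
  nlinarith

/-- the quotient by a central subgroup of order `p` has trivial `p'`-core -/
theorem quot_pPrimeCore {x : H} (hx : orderOf x = p) (hxc : x ∈ center H) [hxn : (zpowers x).Normal]
    (hO : pPrimeCore p H = ⊥) : pPrimeCore p (H ⧸ zpowers x) = ⊥ := by
  have hOn := Cores.pPrimeCore_normal (G := H ⧸ zpowers x) p
  have hOc := Cores.pPrimeCore_coprime (G := H ⧸ zpowers x) p
  set N := (pPrimeCore p (H ⧸ zpowers x)).comap (QuotientGroup.mk' (zpowers x)) with hN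
  have hNn : N.Normal := hOn.comap _
  have hxN : zpowers x ≤ N := by
    intro c hc
    show QuotientGroup.mk' (zpowers x) c ∈ pPrimeCore p (H ⧸ zpowers x)
    rw [show QuotientGroup.mk' (zpowers x) c = 1 from (QuotientGroup.eq_one_iff c).2 hc]
    exact one_mem _
  have hcard : Nat.card ↥N = p * Nat.card ↥(pPrimeCore p (H ⧸ zpowers x)) := by
    have h : Nat.card ((pPrimeCore p (H ⧸ zpowers x)).comap (QuotientGroup.mk' (zpowers x))) =
        Nat.card (zpowers x) * Nat.card (pPrimeCore p (H ⧸ zpowers x)) :=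
      QuotientGroup.card_preimage_mk (zpowers x) (pPrimeCore p (H ⧸ zpowers x) : Set (H ⧸ zpowers x))
    rw [hN, h, Nat.card_zpowers, hx]
  -- the Sylow subgroup of `N`
  set Z : Subgroup ↥N := (zpowers x).subgroupOf N with hZ
  have hZc : Nat.card ↥Z = p := by
    have h1 : Z.map N.subtype = zpowers x := by
      rw [hZ, subgroupOf_map_subtype, inf_eq_left.2 hxN]
    rw [← card_map_of_injective N.subtype_injective, h1, Nat.card_zpowers, hx]
  have hpm : (Nat.card ↥N).factorization p = 1 := by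
    rw [hcard, Nat.factorization_mul hp.out.ne_zero Nat.card_pos.ne', Finsupp.add_apply,
      Nat.Prime.factorization_self hp.out, Nat.factorization_eq_zero_of_not_dvd]
    intro hd
    exact (Nat.Prime.coprime_iff_not_dvd hp.out).1 hOc.symm hd
  let P : Sylow p ↥N := Sylow.ofCard Z (by rw [hZc, hpm, pow_one])
  have hPZ : (P : Subgroup ↥N) = Z := rfl
  have hPc : normalizer ((P : Subgroup ↥N) : Set ↥N) ≤ centralizer ((P : Subgroup ↥N) : Set ↥N) := by
    intro g _
    rw [mem_centralizer_iff]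
    intro c hc
    apply Subtype.ext
    have h1 : (c : H) ∈ zpowers x := mem_subgroupOf.1 (by rw [← hZ, ← hPZ]; exact hc)
    exact (mem_center_iff.1 (zpowers_le.2 hxc h1) g).symm
  have hK := MonoidHom.ker_transferSylow_isComplement' P hPc
  set K := (MonoidHom.transferSylow P hPc).ker with hKd
  have hKc : Nat.card ↥K * p = Nat.card ↥N := by
    rw [← hK.card_mul_card, hPZ, hZc]
  have hKO : K ≤ pPrimeCore p ↥N := by
    refine Cores.le_pPrimeCore (by rw [hKd]; infer_instance) ?_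
    have h1 : Nat.card ↥K = Nat.card ↥(pPrimeCore p (H ⧸ zpowers x)) := by
      rw [hcard, mul_comm] at hKc
      exact Nat.eq_of_mul_eq_mul_left hp.out.pos hKc
    rw [h1]
    exact hOc
  have h1 : (pPrimeCore p ↥N).map N.subtype = ⊥ := by
    rw [Cores.map_subtype_pPrimeCore p hNn, hO, inf_bot_eq]
  have h2 : K = ⊥ := by
    rw [eq_bot_iff]
    refine hKO.trans ?_
    rw [(map_eq_bot_iff_of_injective _ N.subtype_injective).1 h1]
  rw [h2, card_bot, one_mul] at hKc
  rw [← hKc] at hcard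
  have h3 : Nat.card ↥(pPrimeCore p (H ⧸ zpowers x)) = 1 := by
    have := hp.out.pos
    exact (Nat.eq_of_mul_eq_mul_left this ((mul_one p).trans hcard)).symm
  exact card_eq_one.1 h3

/-- **The simple group.** -/
theorem exists_simple (hp2 : p ≠ 2) {x : H} (hx : orderOf x = p) (hxc : x ∈ center H) [hxn : (zpowers x).Normal]
    (hsq : p ^ 2 ∣ Nat.card H) (hcu : ¬ p ^ 3 ∣ Nat.card H)
    (ha : ∀ t : H, orderOf t = 2 → ¬ p ^ 2 ∣ Nat.card ↥(centralizer ({t} : Set H))) (hb : NoTwo p H)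
    {z z' : H} (hz : orderOf z = 2) (hz' : orderOf z' = 2) (hzz' : orderOf (z * z') = 2)
    (hfix : ∀ v : H, v = z ∨ v = z' ∨ v = z * z' → ∀ N : Subgroup H, N ≤ centralizer ({v} : Set H) →
      (∀ c : H, c * v = v * c → ∀ n ∈ N, c * n * c⁻¹ ∈ N) → Odd (Nat.card ↥N) → ¬ p ∣ Nat.card ↥N → N = ⊥) :
    ∃ T : Subgroup (H ⧸ zpowers x), T.Normal ∧ IsSimpleGroup ↥T ∧ ¬ IsMulCommutative ↥T ∧
      centralizer (T : Set (H ⧸ zpowers x)) = ⊥ ∧ ∀ x' : H ⧸ zpowers x, orderOf x' = p → x' ∈ T := by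
  have hodd := odd_core' hp2 hsq ha hb
  have hO : pPrimeCore p H = ⊥ := by
    have hsq' : ∀ v : H, orderOf v = 2 → v * v = 1 := fun v hv => by rw [← pow_two, ← hv, pow_orderOf_eq_one]
    exact bot_of_inverted hodd (inverts hodd (hsq' z hz) (hfix z (Or.inl rfl)))
      (inverts hodd (hsq' z' hz') (hfix z' (Or.inr (Or.inl rfl))))
      (inverts hodd (hsq' _ hzz') (hfix _ (Or.inr (Or.inr rfl))))
  have h1 := quot_pPrimeCore hx hxc hO
  have hxp : IsPGroup p ↥(zpowers x) := IsPGroup.of_card (n := 1) (by rw [Nat.card_zpowers, hx, pow_one])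
  have h2 : pCore p (H ⧸ zpowers x) = ⊥ := by
    have h3 := Cores.comap_mk_pCore p hxp
    rw [pCore_eq hp2 hx hxc hcu hz hz' hzz' ha] at h3
    have h4 := congrArg (Subgroup.map (QuotientGroup.mk' (zpowers x))) h3
    rw [map_comap_eq_self_of_surjective (QuotientGroup.mk'_surjective _)] at h4
    rw [h4, Subgroup.map_eq_bot_iff, QuotientGroup.ker_mk']
  have hcard : Nat.card H = Nat.card (H ⧸ zpowers x) * p := by
    rw [card_eq_card_quotient_mul_card_subgroup (zpowers x), Nat.card_zpowers, hx]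
  have hp0 := hp.out.pos
  have hd : p ∣ Nat.card (H ⧸ zpowers x) := by
    rw [hcard, pow_two] at hsq
    exact Nat.dvd_of_mul_dvd_mul_right hp0 hsq
  have hnd : ¬ p ^ 2 ∣ Nat.card (H ⧸ zpowers x) := by
    intro h
    apply hcu
    rw [hcard, pow_succ]
    exact Nat.mul_dvd_mul_right h p
  refine H49.SP.exists_simple h1 h2 hd fun a b ha' hb' => ?_
  -- Sylow
  have hfac : (Nat.card (H ⧸ zpowers x)).factorization p = 1 := by
    have h3 : 1 ≤ (Nat.card (H ⧸ zpowers x)).factorization p :=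
      (hp.out.dvd_iff_one_le_factorization Nat.card_pos.ne').1 hd
    have h4 : ¬ 2 ≤ (Nat.card (H ⧸ zpowers x)).factorization p := fun h =>
      hnd ((hp.out.pow_dvd_iff_le_factorization Nat.card_pos.ne').2 h)
    omega
  let A : Sylow p (H ⧸ zpowers x) := Sylow.ofCard (zpowers a) (by rw [Nat.card_zpowers, ha', hfac, pow_one])
  let B : Sylow p (H ⧸ zpowers x) := Sylow.ofCard (zpowers b) (by rw [Nat.card_zpowers, hb', hfac, pow_one])
  obtain ⟨g, hg⟩ := MulAction.exists_smul_eq (H ⧸ zpowers x) A B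
  refine ⟨g, ?_⟩
  have h5 : ((g • A : Sylow p (H ⧸ zpowers x)) : Subgroup (H ⧸ zpowers x)) = zpowers b := by
    rw [hg]
    rfl
  rw [← h5, Sylow.coe_subgroup_smul]
  exact ⟨a, mem_zpowers a, rfl⟩

end Cfsg.Agent.H746.MEleven
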