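import Cfsg.Agent.H746.MEleven.Ident

/-!
# The centraliser of a good element of order 11 of a group of the order of the Monster (helper746, for `(M, 11)`, S2120)

* `Facts z x` : the facts about `C(z) ∩ C(x)` used;
* `card_cent` : `|C(x)| = 11 * 95040` and `C(x) / ⟨x⟩` is simple.
-/

set_option autoImplicit false

namespace Cfsg.Agent.H746.MEleven

open Subgroup Cfsg Cfsg.Agent.OrdDiv Cfsg.Agent.BpSpor.MBig

/-- **The facts** about `C(z) ∩ C(x)`, `z` a `2B`-involution commuting with `x` of order 11. -/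
structure Facts {G : Type} [Group G] (z x : G) : Prop where
  not_dvd : ¬ 2 ^ 7 ∣ Nat.card ↥(centralizer ({z} : Set G) ⊓ centralizer ({x} : Set G))
  core : ∀ N : Subgroup G, N ≤ centralizer ({z} : Set G) ⊓ centralizer ({x} : Set G) →
    (∀ c ∈ centralizer ({z} : Set G) ⊓ centralizer ({x} : Set G), ∀ n ∈ N, c * n * c⁻¹ ∈ N) →
    Odd (Nat.card ↥N) → ¬ 11 ∣ Nat.card ↥N → N = ⊥
  two : ∃ T : Subgroup G, IsPGroup 2 ↥T ∧ T ≤ centralizer ({z} : Set G) ⊓ centralizer ({x} : Set G) ∧ z ∈ T ∧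
    2 ^ 5 ∣ Nat.card ↥T ∧ (∃ a ∈ T, ∃ b ∈ T, a * b ≠ b * a) ∧
    (∀ g ∈ centralizer ({z} : Set G) ⊓ centralizer ({x} : Set G), (∃ k : ℕ, g ^ 2 ^ k = 1) →
      (∀ t ∈ T, g * t = t * g) → g = 1 ∨ g = z) ∧
    ∃ z' ∈ T, z' ≠ z ∧ (∃ g : G, g * z * g⁻¹ = z') ∧ ∃ g : G, g * z * g⁻¹ = z * z'

section

variable {G : Type} [Group G] [Finite G]

omit [Finite G] in
/-- the core property for a conjugate of `z` -/
theorem core_conj {z : G} (hF : ∀ x : G, orderOf x = 11 → x * z = z * x → Facts z x) {x v g : G} (hx : orderOf x = 11)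
    (hv : g * z * g⁻¹ = v) (hxv : x * v = v * x) (N : Subgroup G)
    (hN : N ≤ centralizer ({v} : Set G) ⊓ centralizer ({x} : Set G))
    (hn : ∀ c ∈ centralizer ({v} : Set G) ⊓ centralizer ({x} : Set G), ∀ n ∈ N, c * n * c⁻¹ ∈ N)
    (hodd : Odd (Nat.card ↥N)) (h11 : ¬ 11 ∣ Nat.card ↥N) : N = ⊥ := by
  have hx' : orderOf (g⁻¹ * x * g) = 11 := by
    have e : g⁻¹ * x * g = MulAut.conj g⁻¹ x := by rw [MulAut.conj_apply, inv_inv]
    rw [e, MulEquiv.orderOf_eq, hx]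
  have hxz : (g⁻¹ * x * g) * z = z * (g⁻¹ * x * g) := by
    calc (g⁻¹ * x * g) * z = g⁻¹ * (x * (g * z * g⁻¹)) * g := by group
      _ = g⁻¹ * ((g * z * g⁻¹) * x) * g := by rw [hv, hxv]
      _ = z * (g⁻¹ * x * g) := by group
  have hinj := (MulAut.conj g⁻¹).injective
  have h1 := (hF _ hx' hxz).core (N.map (MulAut.conj g⁻¹).toMonoidHom) ?_ ?_ ?_ ?_
  · exact (map_eq_bot_iff_of_injective _ hinj).1 h1
  · rintro _ ⟨n, hnN, rfl⟩
    have h2 := hN hnN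
    have h3 : n * v = v * n := mem_centralizer_singleton_iff.1 h2.1
    have h4 : n * x = x * n := mem_centralizer_singleton_iff.1 h2.2
    refine ⟨mem_centralizer_singleton_iff.2 ?_, mem_centralizer_singleton_iff.2 ?_⟩
    · show (g⁻¹ * n * g⁻¹⁻¹) * z = z * (g⁻¹ * n * g⁻¹⁻¹)
      calc (g⁻¹ * n * g⁻¹⁻¹) * z = g⁻¹ * (n * (g * z * g⁻¹)) * g := by group
        _ = g⁻¹ * ((g * z * g⁻¹) * n) * g := by rw [hv, h3]
        _ = z * (g⁻¹ * n * g⁻¹⁻¹) := by group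
    · show (g⁻¹ * n * g⁻¹⁻¹) * (g⁻¹ * x * g) = (g⁻¹ * x * g) * (g⁻¹ * n * g⁻¹⁻¹)
      calc (g⁻¹ * n * g⁻¹⁻¹) * (g⁻¹ * x * g) = g⁻¹ * (n * x) * g := by group
        _ = g⁻¹ * (x * n) * g := by rw [h4]
        _ = (g⁻¹ * x * g) * (g⁻¹ * n * g⁻¹⁻¹) := by group
  · rintro c ⟨hc1, hc2⟩ _ ⟨n, hnN, rfl⟩
    have h3 : c * z = z * c := mem_centralizer_singleton_iff.1 hc1
    have h4 : c * (g⁻¹ * x * g) = (g⁻¹ * x * g) * c := mem_centralizer_singleton_iff.1 hc2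
    refine ⟨(g * c * g⁻¹) * n * (g * c * g⁻¹)⁻¹, hn _ ⟨mem_centralizer_singleton_iff.2 ?_,
      mem_centralizer_singleton_iff.2 ?_⟩ n hnN, ?_⟩
    · rw [← hv]
      calc g * c * g⁻¹ * (g * z * g⁻¹) = g * (c * z) * g⁻¹ := by group
        _ = g * (z * c) * g⁻¹ := by rw [h3]
        _ = _ := by group
    · calc g * c * g⁻¹ * x = g * (c * (g⁻¹ * x * g)) * g⁻¹ := by group
        _ = g * ((g⁻¹ * x * g) * c) * g⁻¹ := by rw [h4]
        _ = _ := by group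
    · show g⁻¹ * ((g * c * g⁻¹) * n * (g * c * g⁻¹)⁻¹) * g⁻¹⁻¹ = c * (g⁻¹ * n * g⁻¹⁻¹) * c⁻¹
      group
  · rwa [card_map_of_injective hinj]
  · rwa [card_map_of_injective hinj]

/-- the 2-part of `|C(x)|` -/
theorem not_dvd_cent {z x : G} (h : Facts z x) : ¬ 2 ^ 7 ∣ Nat.card ↥(centralizer ({x} : Set G)) := by
  have : Fact (Nat.Prime 2) := ⟨Nat.prime_two⟩
  obtain ⟨T, hT2, hTle, hzT, h5, -, hA3, -⟩ := h.two
  set C := centralizer ({x} : Set G) with hC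
  have hTC : T ≤ C := fun t ht => (hTle ht).2
  obtain ⟨S, hS⟩ := (hT2.comap_subtype (K := C)).exists_le_sylow
  -- the centre
  have hTne : T ≠ ⊥ := by
    rintro rfl
    rw [card_bot] at h5
    norm_num at h5
  have hnt : Nontrivial ↥(S : Subgroup ↥C) := by
    obtain ⟨t, ht, ht1⟩ := (T.bot_or_exists_ne_one).resolve_left hTne
    refine ⟨⟨⟨⟨t, hTC ht⟩, hS (mem_subgroupOf.2 ht)⟩, 1, fun he => ht1 ?_⟩⟩
    exact congrArg (fun y : ↥(S : Subgroup ↥C) => ((y : ↥C) : G)) he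
  have hcn := S.2.center_nontrivial
  obtain ⟨c, hc1⟩ := exists_ne (1 : ↥(center ↥(S : Subgroup ↥C)))
  have hcc : ∀ s ∈ (S : Subgroup ↥C), (((c : ↥(S : Subgroup ↥C)) : ↥C) : G) * (s : G) =
      (s : G) * (((c : ↥(S : Subgroup ↥C)) : ↥C) : G) := by
    intro s hs
    exact congrArg (fun y : ↥(S : Subgroup ↥C) => ((y : ↥C) : G)) (mem_center_iff.1 c.2 ⟨s, hs⟩).symm
  have hct : ∀ t ∈ T, (((c : ↥(S : Subgroup ↥C)) : ↥C) : G) * t = t * (((c : ↥(S : Subgroup ↥C)) : ↥C) : G) :=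
    fun t ht => hcc ⟨t, hTC ht⟩ (hS (mem_subgroupOf.2 ht))
  have hcz : (((c : ↥(S : Subgroup ↥C)) : ↥C) : G) = z := by
    obtain ⟨k, hk⟩ := S.2 (c : ↥(S : Subgroup ↥C))
    rcases hA3 (((c : ↥(S : Subgroup ↥C)) : ↥C) : G) ⟨mem_centralizer_singleton_iff.2 (hct z hzT),
      ((c : ↥(S : Subgroup ↥C)) : ↥C).2⟩ ⟨k, congrArg (fun y : ↥(S : Subgroup ↥C) => ((y : ↥C) : G)) hk⟩ hct with h1 | h1
    · exact absurd (Subtype.ext (Subtype.ext (Subtype.ext h1))) hc1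
    · exact h1
  have hSle : (S : Subgroup ↥C).map C.subtype ≤ centralizer ({z} : Set G) ⊓ centralizer ({x} : Set G) := by
    rintro _ ⟨s, hs, rfl⟩
    refine ⟨mem_centralizer_singleton_iff.2 ?_, s.2⟩
    rw [← hcz]
    exact (hcc s hs).symm
  intro hd
  apply h.not_dvd
  have h1 : 2 ^ 7 ∣ Nat.card ↥(S : Subgroup ↥C) := by
    rw [S.card_eq_multiplicity]
    exact pow_dvd_pow 2 ((Nat.prime_two.pow_dvd_iff_le_factorization Nat.card_pos.ne').1 hd)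
  refine h1.trans ?_
  rw [← card_map_of_injective C.subtype_injective]
  exact card_dvd_of_le hSle

/-- arithmetic of the order -/
theorem dvd_of_two {h m : ℕ} (_hm : Odd m) (hd : h ∣ 2 ^ 46 * m) (hh : ¬ 2 ^ 7 ∣ h) : h ∣ 2 ^ 6 * m := by
  have h0 : h ≠ 0 := by
    rintro rfl
    exact hh (dvd_zero _)
  obtain ⟨a, b, hb, rfl⟩ := Nat.exists_eq_two_pow_mul_odd h0
  have ha : a ≤ 6 := by
    by_contra hcon
    push Not at hcon
    exact hh (Dvd.dvd.mul_right (pow_dvd_pow 2 hcon) b)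
  have hbm : b ∣ m := by
    have h1 : b ∣ 2 ^ 46 * m := (Dvd.intro_left _ rfl).trans hd
    exact (Nat.Coprime.pow_right 46 hb.coprime_two_right).dvd_of_dvd_mul_left h1
  exact Nat.mul_dvd_mul (pow_dvd_pow 2 ha) hbm

/-- the odd part of the order of the Monster -/
def m1 : ℕ := 3 ^ 20 * 5 ^ 9 * 7 ^ 6 * 11 ^ 2 * 13 ^ 3 * 17 * 19 * 23 * 29 * 31 * 41 * 47 * 59 * 71

theorem m1_order : 2 ^ 46 * m1 = 808017424794512875886459904961710757005754368000000000 := by decide +kernel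

theorem odd_m1 : Odd m1 := by
  rw [← Nat.not_even_iff_odd, even_iff_two_dvd]
  decide +kernel

/-- **The centraliser of `x`.** -/
theorem card_cent (TB : OrderTable.{0})
    (hS : ∀ (X : Type) [Group X] [Finite X] [IsSimpleGroup X], IsKnownSimple' X)
    (hG : Nat.card G = 808017424794512875886459904961710757005754368000000000) {z : G} (hz : orderOf z = 2)
    (hF : ∀ x : G, orderOf x = 11 → x * z = z * x → Facts z x)
    (hsq : ∀ v : G, orderOf v = 2 → ¬ 11 ^ 2 ∣ Nat.card ↥(centralizer ({v} : Set G)))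
    {x : G} (hx : orderOf x = 11) (hNT : NoTwo 11 ↥(centralizer ({x} : Set G))) (hxz : x * z = z * x)
    (hxm : x ∈ centralizer ({x} : Set G))
    [hxn : (zpowers (⟨x, hxm⟩ : ↥(centralizer ({x} : Set G)))).Normal] :
    Nat.card ↥(centralizer ({x} : Set G)) = 11 * 95040 ∧
      IsSimpleGroup (↥(centralizer ({x} : Set G)) ⧸ zpowers (⟨x, hxm⟩ : ↥(centralizer ({x} : Set G)))) := by
  have hp : Fact (Nat.Prime 11) := ⟨by norm_num⟩
  have hp2 : Fact (Nat.Prime 2) := ⟨Nat.prime_two⟩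
  have hFx := hF x hx hxz
  have h128 := not_dvd_cent hFx
  set C := centralizer ({x} : Set G) with hC
  set x' : ↥C := ⟨x, hxm⟩ with hx'
  have hx'o : orderOf x' = 11 := by rw [hx', Subgroup.orderOf_mk, hx]
  have hx'c : x' ∈ center ↥C := by
    rw [mem_center_iff]
    intro g
    exact Subtype.ext (mem_centralizer_singleton_iff.1 g.2)
  have hCd : Nat.card ↥C ∣ 2 ^ 46 * m1 := by
    rw [m1_order, ← hG]
    exact card_subgroup_dvd_card C
  have hC6 := dvd_of_two odd_m1 hCd h128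
  have hcu : ¬ 11 ^ 3 ∣ Nat.card ↥C := by
    intro h
    have h1 := h.trans hC6
    revert h1
    decide +kernel
  -- `121 ∣ |C(x)|`
  have hsqC : 11 ^ 2 ∣ Nat.card ↥C := by
    have hxp : IsPGroup 11 ↥(zpowers x) := IsPGroup.of_card (n := 1) (by rw [Nat.card_zpowers, hx, pow_one])
    obtain ⟨P, hP⟩ := hxp.exists_le_sylow
    have hf : (Nat.card G).factorization 11 = 2 := by
      have h1 : 11 ^ 2 ∣ Nat.card G := by rw [hG]; norm_num
      have h2 : ¬ 11 ^ 3 ∣ Nat.card G := by rw [hG]; norm_num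
      have h3 := (hp.out.pow_dvd_iff_le_factorization Nat.card_pos.ne').1 h1
      have h4 : ¬ 3 ≤ (Nat.card G).factorization 11 := fun h =>
        h2 ((hp.out.pow_dvd_iff_le_factorization Nat.card_pos.ne').2 h)
      omega
    have hPc : Nat.card ↥(P : Subgroup G) = 11 ^ 2 := by rw [P.card_eq_multiplicity, hf]
    have hPa := IsPGroup.isMulCommutative_of_card_eq_prime_sq hPc
    rw [← hPc]
    apply card_dvd_of_le
    intro y hy
    rw [hC, mem_centralizer_singleton_iff]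
    exact congrArg Subtype.val (hPa.is_comm.comm ⟨y, hy⟩ ⟨x, hP (mem_zpowers x)⟩)
  have hsqin : ∀ t : ↥C, orderOf t = 2 → ¬ 11 ^ 2 ∣ Nat.card ↥(centralizer ({t} : Set ↥C)) := by
    intro t ht h
    have ht' : orderOf (t : G) = 2 := by rw [Subgroup.orderOf_coe, ht]
    refine hsq _ ht' (h.trans ?_)
    rw [← Subgroup.card_map_of_injective C.subtype_injective]
    refine Subgroup.card_dvd_of_le ?_
    rintro _ ⟨a, ha, rfl⟩
    exact mem_centralizer_singleton_iff.2 (congrArg Subtype.val (mem_centralizer_singleton_iff.1 ha))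
  obtain ⟨T, hT2, hTle, hzT, h5, ⟨a, ha, b, hb, hab⟩, -, z', hz'T, hz'ne, ⟨g1, hg1⟩, ⟨g2, hg2⟩⟩ := hFx.two
  have hTC : T ≤ C := fun t ht => (hTle ht).2
  have hord : ∀ g v : G, g * z * g⁻¹ = v → orderOf v = 2 := by
    intro g v h
    rw [← h, ← hz, ← MulAut.conj_apply, MulEquiv.orderOf_eq]
  have hzC : z ∈ C := hTC hzT
  have hz'C : z' ∈ C := hTC hz'T
  have hzo : orderOf (⟨z, hzC⟩ : ↥C) = 2 := by rw [Subgroup.orderOf_mk, hz]
  have hz'o : orderOf (⟨z', hz'C⟩ : ↥C) = 2 := by rw [Subgroup.orderOf_mk, hord g1 z' hg1]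
  have hzz'o : orderOf ((⟨z, hzC⟩ : ↥C) * ⟨z', hz'C⟩) = 2 := by
    rw [← Subgroup.orderOf_coe]
    exact hord g2 _ hg2
  have hfix : ∀ v : ↥C, v = ⟨z, hzC⟩ ∨ v = ⟨z', hz'C⟩ ∨ v = (⟨z, hzC⟩ : ↥C) * ⟨z', hz'C⟩ → ∀ N : Subgroup ↥C,
      N ≤ centralizer ({v} : Set ↥C) → (∀ c : ↥C, c * v = v * c → ∀ n ∈ N, c * n * c⁻¹ ∈ N) → Odd (Nat.card ↥N) →
      ¬ 11 ∣ Nat.card ↥N → N = ⊥ := by
    intro v hv N hN hNn hodd h11
    obtain ⟨g, hg⟩ : ∃ g : G, g * z * g⁻¹ = (v : G) := by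
      rcases hv with rfl | rfl | rfl
      · exact ⟨1, by group⟩
      · exact ⟨g1, hg1⟩
      · exact ⟨g2, hg2⟩
    have h1 := core_conj hF hx hg (mem_centralizer_singleton_iff.1 v.2).symm (N.map C.subtype) ?_ ?_ ?_ ?_
    · exact (map_eq_bot_iff_of_injective _ C.subtype_injective).1 h1
    · rintro _ ⟨n, hn, rfl⟩
      exact ⟨mem_centralizer_singleton_iff.2 (congrArg Subtype.val (mem_centralizer_singleton_iff.1 (hN hn))), n.2⟩
    · rintro c ⟨hc1, hc2⟩ _ ⟨n, hn, rfl⟩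
      exact ⟨_, hNn ⟨c, hc2⟩ (Subtype.ext (mem_centralizer_singleton_iff.1 hc1)) n hn, rfl⟩
    · rwa [card_map_of_injective C.subtype_injective]
    · rwa [card_map_of_injective C.subtype_injective]
  obtain ⟨E, hEn, hEs, hEna, hEc, hE11⟩ := exists_simple (by norm_num) hx'o hx'c hsqC hcu hsqin hNT hzo hz'o hzz'o hfix
  have hcard : Nat.card ↥C = Nat.card (↥C ⧸ zpowers x') * 11 := by
    rw [card_eq_card_quotient_mul_card_subgroup (zpowers x'), Nat.card_zpowers, hx'o]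
  have hX6 : Nat.card (↥C ⧸ zpowers x') ∣ n6 := by
    rw [hcard, show 2 ^ 6 * m1 = n6 * 11 by decide +kernel] at hC6
    exact Nat.dvd_of_mul_dvd_mul_right (by norm_num) hC6
  have hX11 : 11 ∣ Nat.card (↥C ⧸ zpowers x') := by
    rw [hcard, pow_two] at hsqC
    exact Nat.dvd_of_mul_dvd_mul_right (by norm_num) hsqC
  have hE : 11 ∣ Nat.card ↥E := by
    obtain ⟨y, hy⟩ := exists_prime_orderOf_dvd_card' 11 hX11
    rw [← hy]
    exact Subgroup.orderOf_dvd_natCard _ (hE11 y hy)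
  have h32 : 32 ∣ Nat.card (↥C ⧸ zpowers x') := by
    have h1 : 2 ^ 5 ∣ Nat.card (↥C ⧸ zpowers x') * 11 := by
      rw [← hcard]
      exact h5.trans (card_dvd_of_le hTC)
    exact Nat.Coprime.dvd_of_dvd_mul_right (by norm_num) h1
  have hn128 : ¬ 128 ∣ Nat.card (↥C ⧸ zpowers x') := by
    intro h
    apply h128
    rw [hcard]
    exact Dvd.dvd.mul_right h 11
  have hres := identify TB hS E hEs hEna hEc hX6 hE h32 hn128 ?_
  · refine ⟨?_, hres.2⟩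
    rw [hcard, hres.1]
  · refine ⟨(T.subgroupOf C).map (QuotientGroup.mk' (zpowers x')), (hT2.comap_subtype (K := C)).map _, _,
      ⟨⟨a, hTC ha⟩, mem_subgroupOf.2 ha, rfl⟩, _, ⟨⟨b, hTC hb⟩, mem_subgroupOf.2 hb, rfl⟩, ?_⟩
    intro he
    rw [← map_mul, ← map_mul] at he
    have h1 : ((⟨a, hTC ha⟩ : ↥C) * ⟨b, hTC hb⟩)⁻¹ * (⟨b, hTC hb⟩ * ⟨a, hTC ha⟩) ∈ zpowers x' := QuotientGroup.eq.1 he
    apply hab
    set w : ↥C := ((⟨a, hTC ha⟩ : ↥C) * ⟨b, hTC hb⟩)⁻¹ * (⟨b, hTC hb⟩ * ⟨a, hTC ha⟩) with hw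
    have hwT : (w : G) ∈ T := mul_mem (inv_mem (mul_mem ha hb)) (mul_mem hb ha)
    have h2 : orderOf w ∣ 11 := by
      rw [← hx'o, ← Nat.card_zpowers x']
      exact Subgroup.orderOf_dvd_natCard _ h1
    obtain ⟨k, hk⟩ := hT2 ⟨w, hwT⟩
    have h3 : (w : G) ^ 2 ^ k = 1 := congrArg Subtype.val hk
    have h4 : orderOf w ∣ 2 ^ k := by
      rw [← Subgroup.orderOf_coe]
      exact orderOf_dvd_of_pow_eq_one h3
    have h5 := Nat.dvd_gcd h4 h2
    rw [Nat.Coprime.gcd_eq_one (Nat.Coprime.pow_left k (by norm_num)), Nat.dvd_one, orderOf_eq_one_iff] at h5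
    have h6 : (a * b)⁻¹ * (b * a) = 1 := congrArg Subtype.val (hw.symm.trans h5)
    exact (inv_mul_eq_one.1 h6)

end

end Cfsg.Agent.H746.MEleven
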