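import Cfsg.Agent.H746.MEleven.PartCa

/-!
# The strongly 11-embedded subgroup of the Monster, modulo the core (helper746, for `(M, 11)`, S2120)

* `Hyp K` : the facts about the strongly 11-embedded subgroup `K`;
* `exists_noncyclic` : the Sylow 11-subgroups of `K` are not cyclic;
* `Cent.quot`, `cent_quot` : centralizers in `K / O_{11'}(K)`.
-/

set_option autoImplicit false
set_option linter.unusedSectionVars false

namespace Cfsg.Agent.H746.MEleven

open Subgroup Cfsg Cfsg.Agent.Lib Cfsg.Agent.BpSpor.MBig Cfsg.Agent.H154.StrP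

universe u

section Cyc

variable {C : Type u} [Group C] [Finite C] {p : ℕ} [hp : Fact p.Prime]

/-- a cyclic Sylow subgroup of order `p²` in a group with a central element of order `p` -/
theorem norm_le_cent (P : Sylow p C) (hP : Nat.card ↥(P : Subgroup C) = p ^ 2) (hc : IsCyclic ↥(P : Subgroup C)) {x : C}
    (hx : orderOf x = p) (hxc : x ∈ center C) :
    normalizer ((P : Subgroup C) : Set C) ≤ centralizer ((P : Subgroup C) : Set C) := by
  have hxn : (zpowers x).Normal := by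
    refine ⟨?_⟩
    rintro _ ⟨k, rfl⟩ g
    refine ⟨k, ?_⟩
    show x ^ k = g * x ^ k * g⁻¹
    rw [mem_center_iff.1 (zpow_mem hxc k) g, mul_inv_cancel_right]
  have hxp : IsPGroup p ↥(zpowers x) := IsPGroup.of_card (n := 1) (by rw [Nat.card_zpowers, hx, pow_one])
  have hxP : x ∈ (P : Subgroup C) := Cores.pCore_le_sylow P (Cores.le_pCore hxn hxp (mem_zpowers x))
  obtain ⟨⟨h, hhP⟩, hh⟩ := hc.exists_generator
  have hgen : ∀ y ∈ (P : Subgroup C), ∃ k : ℕ, y = h ^ k := by
    intro y hy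
    obtain ⟨k, hk⟩ := (mem_powers_iff_mem_zpowers.2 (hh ⟨y, hy⟩) : _ ∈ Submonoid.powers _)
    exact ⟨k, (congrArg Subtype.val hk).symm⟩
  have hho : orderOf h = p ^ 2 := by
    have h1 := orderOf_eq_card_of_forall_mem_zpowers hh
    rw [hP, Subgroup.orderOf_mk] at h1
    exact h1
  -- the `p`-th power of an element of the normaliser centralises
  have hpow : ∀ g ∈ normalizer ((P : Subgroup C) : Set C), g ^ p ∈ centralizer ((P : Subgroup C) : Set C) := by
    intro g hg
    obtain ⟨a, ha⟩ := hgen (g * h * g⁻¹) ((mem_normalizer_iff.1 hg h).1 hhP)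
    obtain ⟨b, hb⟩ := hgen x hxP
    have h1 : g * x * g⁻¹ = x := by rw [mem_center_iff.1 hxc g, mul_inv_cancel_right]
    have h2 : h ^ (a * b) = h ^ b := by
      calc h ^ (a * b) = (g * h * g⁻¹) ^ b := by rw [ha, pow_mul]
        _ = g * h ^ b * g⁻¹ := conj_pow
        _ = h ^ b := by rw [← hb, h1]
    have h3 : a * b ≡ b [MOD p ^ 2] := by rw [← hho]; exact pow_eq_pow_iff_modEq.1 h2
    have h4 : p ∣ b := by
      have h5 : h ^ (b * p) = 1 := by rw [pow_mul, ← hb, ← hx, pow_orderOf_eq_one]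
      have h6 := orderOf_dvd_of_pow_eq_one h5
      rw [hho, pow_two] at h6
      exact Nat.dvd_of_mul_dvd_mul_right hp.out.pos h6
    obtain ⟨b', rfl⟩ := h4
    have hb' : ¬ p ∣ b' := by
      rintro ⟨b'', rfl⟩
      have h5 : x = 1 := by
        rw [hb, ← mul_assoc, ← pow_two, pow_mul, ← hho, pow_orderOf_eq_one, one_pow]
      rw [h5, orderOf_one] at hx
      exact hp.out.one_lt.ne hx
    have h5 : a ≡ 1 [MOD p] := by
      have h6 : p * (a * b') ≡ p * b' [MOD p * p] := by
        rw [← pow_two]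
        calc p * (a * b') = a * (p * b') := by ring
          _ ≡ p * b' [MOD p ^ 2] := h3
      have h7 : a * b' ≡ 1 * b' [MOD p] := by
        rw [one_mul]
        exact Nat.ModEq.mul_left_cancel' hp.out.ne_zero h6
      exact Nat.ModEq.cancel_right_of_coprime ((hp.out.coprime_iff_not_dvd.2 hb')) h7
    have h6 : a ^ p ≡ 1 [MOD p ^ 2] := by
      have h7 : ((a : ℤ) - 1) ∣ 0 ∨ True := Or.inr trivial
      have h8 : (p : ℤ) ∣ (a : ℤ) - 1 := by
        have := (Nat.modEq_iff_dvd.1 h5.symm)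
        simpa using this
      have h9 : (p : ℤ) ^ (1 + 1) ∣ (a : ℤ) ^ p ^ 1 - 1 ^ p ^ 1 := dvd_sub_pow_of_dvd_sub h8 1
      rw [pow_one, one_pow] at h9
      have h10 : ((p ^ 2 : ℕ) : ℤ) ∣ ((a ^ p : ℕ) : ℤ) - ((1 : ℕ) : ℤ) := by
        push_cast
        exact h9
      exact (Nat.modEq_iff_dvd.2 h10).symm
    have h7 : ∀ k : ℕ, g ^ k * h * (g ^ k)⁻¹ = h ^ (a ^ k) := by
      intro k
      induction k with
      | zero => simp
      | succ k ih =>
        calc g ^ (k + 1) * h * (g ^ (k + 1))⁻¹ = g * (g ^ k * h * (g ^ k)⁻¹) * g⁻¹ := by rw [pow_succ']; group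
          _ = (g * h * g⁻¹) ^ a ^ k := by rw [ih, conj_pow]
          _ = h ^ (a ^ (k + 1)) := by rw [ha, ← pow_mul, ← pow_succ']
    have h8 : g ^ p * h * (g ^ p)⁻¹ = h := by
      rw [h7 p]
      calc h ^ a ^ p = h ^ 1 := pow_eq_pow_iff_modEq.2 (by rw [hho]; exact h6)
        _ = h := pow_one h
    rw [mem_centralizer_iff]
    intro y hy
    obtain ⟨k, rfl⟩ := hgen y hy
    have h9 : Commute (g ^ p) h := mul_inv_eq_iff_eq_mul.1 h8
    exact (h9.pow_right k).symm
  -- coprimality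
  intro g hg
  set N := normalizer ((P : Subgroup C) : Set C) with hN
  set Z := centralizer ((P : Subgroup C) : Set C) with hZ
  have hPZ : (P : Subgroup C) ≤ Z := by
    have hcomm := IsPGroup.isMulCommutative_of_card_eq_prime_sq hP
    intro a ha
    rw [mem_centralizer_iff]
    intro b hb
    exact congrArg Subtype.val (hcomm.is_comm.comm ⟨b, hb⟩ ⟨a, ha⟩)
  have hZn : (Z.subgroupOf N).Normal := by
    refine ⟨fun n hn g => ?_⟩
    rw [mem_subgroupOf] at hn ⊢
    rw [hZ, mem_centralizer_iff] at hn ⊢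
    intro y hy
    have h1 := hn ((g : C)⁻¹ * y * g) (by
      have h2 : (g : C)⁻¹ * y * ((g : C)⁻¹)⁻¹ ∈ (P : Subgroup C) := (mem_normalizer_iff.1 (inv_mem g.2) y).1 hy
      rwa [inv_inv] at h2)
    change y * ((g : C) * n * (g : C)⁻¹) = (g : C) * n * (g : C)⁻¹ * y
    calc y * ((g : C) * n * (g : C)⁻¹) = g * (((g : C)⁻¹ * y * g) * n) * (g : C)⁻¹ := by group
      _ = g * (n * ((g : C)⁻¹ * y * g)) * (g : C)⁻¹ := by rw [h1]
      _ = _ := by group
  have hcop : ¬ p ∣ Nat.card (↥N ⧸ Z.subgroupOf N) := by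
    intro hd
    have h1 : Nat.card (↥N ⧸ Z.subgroupOf N) = Z.relIndex N := rfl
    rw [h1] at hd
    have h2 : Z.relIndex N ∣ (P : Subgroup C).index := by
      have h3 : (P : Subgroup C).relIndex N ∣ (P : Subgroup C).index := relIndex_dvd_index_of_le le_normalizer
      exact (relIndex_dvd_of_le_left N hPZ).trans h3
    exact P.not_dvd_index (hd.trans h2)
  have h1 : (QuotientGroup.mk' (Z.subgroupOf N) ⟨g, hg⟩) ^ p = 1 := by
    rw [← map_pow]
    exact (QuotientGroup.eq_one_iff _).2 (mem_subgroupOf.2 (hpow g hg))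
  have h2 : orderOf (QuotientGroup.mk' (Z.subgroupOf N) ⟨g, hg⟩) ∣ p := orderOf_dvd_of_pow_eq_one h1
  have h3 : orderOf (QuotientGroup.mk' (Z.subgroupOf N) ⟨g, hg⟩) ∣ Nat.card (↥N ⧸ Z.subgroupOf N) :=
    _root_.orderOf_dvd_natCard _
  rcases (Nat.dvd_prime hp.out).1 h2 with h4 | h4
  · exact mem_subgroupOf.1 ((QuotientGroup.eq_one_iff _).1 (orderOf_eq_one_iff.1 h4))
  · exact absurd (h4 ▸ h3) hcop

end Cyc

/-- the facts about the strongly 11-embedded subgroup -/
structure Hyp (K : Type u) [Group K] : Prop where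
  idx : ∃ n, Nat.card K * n = nM ∧ n % 121 = 1 ∧ n ≠ 1
  cent : ∀ x v : K, orderOf x = 11 → orderOf v = 2 → v * x = x * v → Cent x
  f2 : F2 2 11 2 K
  nt : ∀ x : K, orderOf x = 11 → NoTwo 11 ↥(centralizer ({x} : Set K))
  four : ∃ x v w : K, orderOf x = 11 ∧ orderOf v = 2 ∧ orderOf w = 2 ∧ v ≠ w ∧ v * w = w * v ∧ v * x = x * v ∧
    w * x = x * w ∧ ¬ 5 ^ 5 ∣ Nat.card ↥(centralizer ({v} : Set K)) ∧
    ¬ 5 ^ 5 ∣ Nat.card ↥(centralizer ({w} : Set K)) ∧ ¬ 5 ^ 5 ∣ Nat.card ↥(centralizer ({v * w} : Set K))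

section

variable {K : Type u} [Group K] [Finite K]

theorem Cent.sylow {x : K} (hx : orderOf x = 11) (hc : Cent x) (P : Sylow 11 K) (hP : Nat.card ↥(P : Subgroup K) = 11 ^ 2)
    (hxP : x ∈ (P : Subgroup K)) : ¬ IsCyclic ↥(P : Subgroup K) := by
  intro hcyc
  have hp : Fact (Nat.Prime 11) := ⟨by norm_num⟩
  set C := centralizer ({x} : Set K) with hC
  have hPC : (P : Subgroup K) ≤ C := by
    have hcomm := IsPGroup.isMulCommutative_of_card_eq_prime_sq hP
    intro a ha
    exact mem_cent.2 (congrArg Subtype.val (hcomm.is_comm.comm ⟨a, ha⟩ ⟨x, hxP⟩))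
  let P' : Sylow 11 ↥C := P.subtype hPC
  have hP' : (P' : Subgroup ↥C) = (P : Subgroup K).subgroupOf C := P.coe_subtype hPC
  have e : ↥(P' : Subgroup ↥C) ≃* ↥(P : Subgroup K) := by
    rw [hP']
    exact subgroupOfEquivOfLe hPC
  have hP'c : Nat.card ↥(P' : Subgroup ↥C) = 11 ^ 2 := by rw [Nat.card_congr e.toEquiv, hP]
  have hcyc' : IsCyclic ↥(P' : Subgroup ↥C) := isCyclic_of_surjective e.symm e.symm.surjective
  have hxC : x ∈ C := mem_cent.2 rfl
  have hnc := norm_le_cent P' hP'c hcyc' (x := ⟨x, hxC⟩) (by rw [Subgroup.orderOf_mk, hx]) (by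
    rw [mem_center_iff]
    intro g
    exact Subtype.ext (mem_cent.1 g.2))
  have hK := MonoidHom.ker_transferSylow_isComplement' P' hnc
  set W := (MonoidHom.transferSylow P' hnc).ker with hW
  have hWc : Nat.card ↥W * 11 ^ 2 = Nat.card ↥C := by
    rw [← hK.card_mul_card, hP'c]
  have hCc : Nat.card ↥C = 11 * 95040 := hc.1
  have hWc' : Nat.card ↥W = 8640 := by
    rw [hCc] at hWc
    omega
  have hWn : W.Normal := by rw [hW]; infer_instance
  have hWm : Nat.card ↥(W.map C.subtype) = 8640 := by rw [card_map_of_injective C.subtype_injective, hWc']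
  rcases hc.2 (W.map C.subtype) (map_subtype_le _) (by
    rintro c hc _ ⟨n, hn, rfl⟩
    exact ⟨_, hWn.conj_mem n hn ⟨c, hc⟩, rfl⟩) with h | h
  · have h1 := card_dvd_of_le h
    rw [hWm, Nat.card_zpowers, hx] at h1
    norm_num at h1
  · exact not_le_sup hx hc (map_subtype_le _) (by rw [hWm]; norm_num) h

theorem Hyp.card_sylow (H : Hyp K) [Fact (Nat.Prime 11)] (P : Sylow 11 K) : Nat.card ↥(P : Subgroup K) = 11 ^ 2 := by
  obtain ⟨n, hn, hn1, -⟩ := H.idx
  have hcop : Nat.Coprime (11 ^ 2) n := by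
    apply Nat.Coprime.pow_left
    rw [Nat.Prime.coprime_iff_not_dvd (by norm_num)]
    intro h
    omega
  have h1 : 11 ^ 2 ∣ Nat.card K := by
    have h2 : 11 ^ 2 ∣ Nat.card K * n := by rw [hn]; decide +kernel
    exact hcop.dvd_of_dvd_mul_right h2
  have h2 : ¬ 11 ^ 3 ∣ Nat.card K := by
    intro h
    have h3 : 11 ^ 3 ∣ nM := by rw [← hn]; exact Dvd.dvd.mul_right h n
    revert h3
    decide +kernel
  have h3 := ((Fact.out : Nat.Prime 11).pow_dvd_iff_le_factorization Nat.card_pos.ne').1 h1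
  have h4 : ¬ 3 ≤ (Nat.card K).factorization 11 := fun h =>
    h2 (((Fact.out : Nat.Prime 11).pow_dvd_iff_le_factorization Nat.card_pos.ne').2 h)
  rw [P.card_eq_multiplicity]
  congr 1
  omega

/-- an abelian Sylow subgroup containing `x` -/
theorem Hyp.exists_sylow (H : Hyp K) : ∃ (_ : Fact (Nat.Prime 11)) (x : K) (P : Sylow 11 K), orderOf x = 11 ∧
    Cent x ∧ x ∈ (P : Subgroup K) := by
  have hp : Fact (Nat.Prime 11) := ⟨by norm_num⟩
  obtain ⟨x, v, w, hx, hv, -, -, -, hvx, -⟩ := H.four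
  have hxp : IsPGroup 11 ↥(zpowers x) := IsPGroup.of_card (n := 1) (by rw [Nat.card_zpowers, hx, pow_one])
  obtain ⟨P, hP⟩ := hxp.exists_le_sylow
  exact ⟨hp, x, P, hx, H.cent x v hx hv hvx, hP (mem_zpowers x)⟩

/-- **The core is odd.** -/
theorem Hyp.odd (H : Hyp K) : ¬ 2 ∣ Nat.card ↥(pPrimeCore 11 K) := by
  obtain ⟨hp, x, P, hx, hc, hxP⟩ := H.exists_sylow
  have h1 := H154.StrP.odd_core (p := 11) (by norm_num) (E := P) (H.card_sylow P) (hc.sylow hx P (H.card_sylow P) hxP)
    H.f2 H.nt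
  rw [← even_iff_two_dvd, Nat.not_even_iff_odd]
  exact h1

theorem Hyp.eleven : ¬ 11 ∣ Nat.card ↥(pPrimeCore 11 K) := by
  intro h
  have h1 := Cores.pPrimeCore_coprime (G := K) 11
  exact (Nat.Prime.coprime_iff_not_dvd (by norm_num : Nat.Prime 11)).1 h1.symm h

theorem sq_of_order {v : K} (hv : orderOf v = 2) : v * v = 1 := by rw [← pow_two, ← hv, pow_orderOf_eq_one]

/-- **The order of the core.** -/
theorem Hyp.card_core (H : Hyp K) : ∃ j i : ℕ, j ≤ 20 ∧ i ≤ 1 ∧ 3 ^ j % 11 = 1 ∧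
    Nat.card ↥(pPrimeCore 11 K) = 3 ^ j * 23 ^ i := by
  have hVn := Cores.pPrimeCore_normal (G := K) 11
  obtain ⟨x, v, w, hx, hv, hw, -, -, hvx, hwx, h1, h2, h3⟩ := H.four
  have hc := H.cent x v hx hv hvx
  have hM : Nat.card ↥(pPrimeCore 11 K) ∣ nM := by
    obtain ⟨n, hn, -⟩ := H.idx
    rw [← hn]
    exact Dvd.dvd.mul_right (card_subgroup_dvd_card _) n
  have h5 := not_five hVn Hyp.eleven (fun h => by
    have h4 := h.trans hM
    revert h4
    decide +kernel) hx hc (sq_of_order hv) (sq_of_order hw) hvx hwx h1 h2 h3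
  exact card_V hVn Hyp.eleven H.odd h5 hM hx hc

end

/-! ### the quotient -/

section

variable {K : Type u} [Group K] [Finite K] {V : Subgroup K} [hV : V.Normal]

/-- the centralizer in the quotient -/
theorem map_cent (h11 : (Nat.card ↥V).Coprime 11) {x : K} (hx : orderOf x = 11) :
    (centralizer ({x} : Set K)).map (QuotientGroup.mk' V) = centralizer ({QuotientGroup.mk' V x} : Set (K ⧸ V)) := by
  have hp : Fact (Nat.Prime 11) := ⟨by norm_num⟩
  have hxp : IsPGroup 11 ↥(zpowers x) := IsPGroup.of_card (n := 1) (by rw [Nat.card_zpowers, hx, pow_one])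
  have key := PLocal.CoprimeLift.map_centralizer_mk V (zpowers x) h11 hxp
  have e1 : ∀ {L : Type u} [Group L] (y : L), centralizer ((zpowers y : Subgroup L) : Set L) = centralizer ({y} : Set L) := by
    intro L _ y
    apply le_antisymm
    · exact centralizer_le (Set.singleton_subset_iff.2 (mem_zpowers y))
    · intro g hg
      rw [mem_centralizer_iff]
      intro c hc
      exact (comm_zpowers (mem_cent.1 hg) hc).symm
  rw [MonoidHom.map_zpowers, e1, e1] at key
  exact key

theorem orderOf_mk {x : K} {r : ℕ} (hr : r.Prime) (hrV : ¬ r ∣ Nat.card ↥V)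
    (hx : orderOf x = r) : orderOf (QuotientGroup.mk' V x) = r := by
  have h1 : orderOf (QuotientGroup.mk' V x) ∣ r := by
    rw [← hx]
    exact orderOf_map_dvd _ x
  rcases (Nat.dvd_prime hr).1 h1 with h2 | h2
  · exfalso
    have h3 : x ∈ V := (QuotientGroup.eq_one_iff x).1 (orderOf_eq_one_iff.1 h2)
    exact hrV (hx ▸ Subgroup.orderOf_dvd_natCard _ h3)
  · exact h2

/-- **The centralizer in the quotient.** -/
theorem Cent.quot (h11 : (Nat.card ↥V).Coprime 11) {x : K} (hx : orderOf x = 11) (hc : Cent x) :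
    Cent (QuotientGroup.mk' V x) := by
  have hmap := map_cent h11 hx
  have h11' : ¬ 11 ∣ Nat.card ↥V := fun h => (Nat.Prime.coprime_iff_not_dvd (by norm_num : Nat.Prime 11)).1 h11.symm h
  refine ⟨?_, ?_⟩
  · rw [← hmap]
    have hinj : Function.Injective ((QuotientGroup.mk' V).subgroupMap (centralizer ({x} : Set K))) := by
      rw [injective_iff_map_eq_one]
      intro a ha
      have h1 : (a : K) ∈ V := (QuotientGroup.eq_one_iff _).1 (congrArg Subtype.val ha)
      exact Subtype.ext (fpf hV h11' hx hc h1 (mem_cent.1 a.2))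
    rw [← hc.1]
    exact (Nat.card_congr (Equiv.ofBijective _ ⟨hinj, (QuotientGroup.mk' V).subgroupMap_surjective _⟩)).symm
  · intro N hN hn
    rcases hc.2 (N.comap (QuotientGroup.mk' V) ⊓ centralizer ({x} : Set K)) inf_le_right (by
      rintro c hcx n ⟨hn1, hn2⟩
      refine ⟨?_, (centralizer ({x} : Set K)).mul_mem ((centralizer ({x} : Set K)).mul_mem hcx hn2)
        ((centralizer ({x} : Set K)).inv_mem hcx)⟩
      change QuotientGroup.mk' V (c * n * c⁻¹) ∈ N
      rw [map_mul, map_mul, map_inv]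
      exact hn _ (hmap ▸ ⟨c, hcx, rfl⟩) _ hn1) with h | h
    · left
      intro y hy
      have h1 := hN hy
      rw [← hmap] at h1
      obtain ⟨c, hcx, rfl⟩ := h1
      rw [← MonoidHom.map_zpowers]
      exact ⟨c, h ⟨hy, hcx⟩, rfl⟩
    · right
      rw [← hmap, ← MonoidHom.map_zpowers]
      refine (map_mono h).trans ?_
      rw [Subgroup.map_sup]
      refine sup_le_sup_right ?_ _
      rintro _ ⟨c, hcx, rfl⟩
      exact hcx.1

theorem Cent.of_zpowers {x y : K} (h : zpowers x = zpowers y) (hc : Cent x) : Cent y := by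
  have e1 : ∀ y : K, centralizer ({y} : Set K) = centralizer ((zpowers y : Subgroup K) : Set K) := by
    intro y
    apply le_antisymm
    · intro g hg
      rw [mem_centralizer_iff]
      intro c hc
      exact (comm_zpowers (mem_cent.1 hg) hc).symm
    · exact centralizer_le (Set.singleton_subset_iff.2 (mem_zpowers y))
  unfold Cent at hc ⊢
  rw [e1 y, ← h, ← e1 x]
  exact hc

/-- **Good elements of the quotient.** -/
theorem cent_quot (h11 : (Nat.card ↥V).Coprime 11)
    (hcent : ∀ x v : K, orderOf x = 11 → orderOf v = 2 → v * x = x * v → Cent x) {x v : K ⧸ V} (hx : orderOf x = 11)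
    (hv : orderOf v = 2) (hvx : v * x = x * v) : Cent x := by
  have hp : Fact (Nat.Prime 11) := ⟨by norm_num⟩
  obtain ⟨D, hD, hDe⟩ := exists_lift_group V h11 (E := zpowers x) (k := 1) (by rw [Nat.card_zpowers, hx, pow_one])
  obtain ⟨t, ht, hto⟩ := exists_lift Nat.prime_two V h11 (D := D) (IsPGroup.of_card hD) hv (by
    rw [hDe, mem_centralizer_iff]
    intro y hy
    exact (comm_zpowers hvx hy).symm)
  have hDc : IsCyclic ↥D := isCyclic_of_prime_card (p := 11) (by rw [hD, pow_one])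
  obtain ⟨⟨d, hdD⟩, hd⟩ := hDc.exists_generator
  have hdo : orderOf d = 11 := by
    have h1 := orderOf_eq_card_of_forall_mem_zpowers hd
    rw [hD, pow_one, Subgroup.orderOf_mk] at h1
    exact h1
  have hDd : D = zpowers d := by
    apply le_antisymm
    · intro y hy
      obtain ⟨k, hk⟩ := hd ⟨y, hy⟩
      exact ⟨k, congrArg Subtype.val hk⟩
    · exact zpowers_le.2 hdD
  have hcd := hcent d t hdo hto (mem_centralizer_iff.1 ht d hdD).symm
  refine (hcd.quot h11 hdo).of_zpowers ?_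
  rw [← MonoidHom.map_zpowers, ← hDd, hDe]

end

end Cfsg.Agent.H746.MEleven
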