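import Cfsg.Agent.H746.MEleven.PartCc
import Cfsg.Agent.H154.StrP.OutList

/-!
# The strongly 11-embedded subgroup of the Monster: one component (helper746, for `(M, 11)`, S2120)

* `Hyp.false` : no group satisfies `Hyp`.
-/

set_option autoImplicit false
set_option linter.unusedSectionVars false

namespace Cfsg.Agent.H746.MEleven

open Subgroup Cfsg Cfsg.Agent.Lib Cfsg.Agent.BpSpor.MBig Cfsg.Agent.H154.StrP Cfsg.Agent.OrdDiv Cfsg.Agent.H902
  Cfsg.Agent.H902.Names Cfsg.Agent.H364.OutLie Cfsg.Agent.H154.OutList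

/-- the primes of the Monster -/
def lM : List (ℕ × ℕ) :=
  [(2, 46), (3, 20), (5, 9), (7, 6), (11, 2), (13, 3), (17, 1), (19, 1), (23, 1), (29, 1), (31, 1), (41, 1), (47, 1),
    (59, 1), (71, 1)]

theorem valid_lM : valid lM nM = true := by decide +kernel

/-- a bound for the outer automorphism group -/
def kk : Grp → ℕ
  | .alt _ => 2
  | .psl n q => 24 * Nat.gcd n (q - 1)
  | .oplus n q => 24 * Nat.gcd 4 (q ^ n - 1)
  | _ => 0

/-- the names for which `kk` is a bound -/
def okK : Grp → Bool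
  | .alt n => Nat.ble 7 n
  | .psl n q => Nat.ble 3 n && Nat.beq q 3
  | .oplus n q => Nat.ble 4 n && Nat.beq q 3
  | _ => false

/-- the check on a name -/
def okN (g : Grp) : Bool :=
  if Nat.beq (ordN g % 11) 0 then
    if Nat.beq (ordN g % 121) 0 then
      Nat.beq (ordN g) nM || (okK g && (!(Nat.beq (kk g) 0) && (Nat.ble (kk g) 96 &&
        (List.range 97).all fun k => !(Nat.beq (kk g % k) 0) || Nat.beq k 0 || chk (ordN g * k))))
    else okG 11 g
  else true

theorem okN_all : (cands lM nM).all okN = true := by decide +kernel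

/-- `|Out S|` divides `kk g` -/
theorem out_dvd {S : Type} [Group S] [Finite S] [IsSimpleGroup S] (hna : ¬ ∀ a b : S, a * b = b * a) {g : Grp}
    (hg : OrdDiv.Real g S) (hok : okK g = true) : Nat.card (Cfsg.Out S) ∣ kk g := by
  cases g with
  | alt n =>
    obtain ⟨e⟩ := hg
    have hn : 7 ≤ n := Nat.le_of_ble_eq_true hok
    rw [H55.OutGen.card_out_congr e, H489.card_out_alt (by omega) (by omega)]
    rfl
  | psl n q =>
    simp only [okK, Bool.and_eq_true, Nat.ble_eq, Nat.beq_eq] at hok
    obtain ⟨h1, rfl⟩ := hok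
    obtain ⟨F, _, _, hF, ⟨e⟩⟩ := hg
    have hF' : Fintype.card F = 3 ^ 1 := by rw [hF, pow_one]
    have hR := psl_real (p := 3) (f := 1) Nat.prime_three le_rfl hF' (by omega : 2 ≤ n) (fun h => by omega)
    obtain ⟨c, hc, hc1, -⟩ := card_out hna (.psl n 3 1) ⟨F, inferInstance, inferInstance, hF', ⟨e⟩⟩
      (by rw [Nat.card_congr e.toEquiv]; exact hR)
    rw [hc, mul_one]
    exact hc1
  | oplus n q =>
    simp only [okK, Bool.and_eq_true, Nat.ble_eq, Nat.beq_eq] at hok
    obtain ⟨h1, rfl⟩ := hok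
    obtain ⟨F, _, _, hF, ⟨e⟩⟩ := hg
    have hF' : Fintype.card F = 3 ^ 1 := by rw [hF, pow_one]
    have hR := oplus_real (p := 3) (f := 1) Nat.prime_three le_rfl hF' h1
    obtain ⟨c, hc, hc1, -⟩ := card_out hna (.oplus n 3 1) ⟨F, inferInstance, inferInstance, hF', ⟨e⟩⟩
      (by rw [Nat.card_congr e.toEquiv]; exact hR)
    rw [hc, mul_one]
    exact hc1
  | _ => exact absurd hok Bool.false_ne_true

variable {K : Type} [Group K] [Finite K]

/-- **`K / V` does not have a simple normal subgroup with trivial centralizer.** -/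
theorem Hyp.not_one (TB : OrderTable.{0})
    (hS : ∀ (X : Type) [Group X] [Finite X] [IsSimpleGroup X], IsKnownSimple' X) (H : Hyp K)
    [hVn : (pPrimeCore 11 K).Normal] : ¬ One 11 (K ⧸ pPrimeCore 11 K) := by
  rintro ⟨E, hEn, hEs, hEna, hEc, h11⟩
  have hp : Fact (Nat.Prime 11) := ⟨by norm_num⟩
  have hna : ¬ ∀ a b : ↥E, a * b = b * a := fun h => hEna ⟨⟨h⟩⟩
  set X := K ⧸ pPrimeCore 11 K with hX
  obtain ⟨n, hn, hn1, hne⟩ := H.idx
  have hXd : Nat.card X ∣ Nat.card K := by
    rw [H.card_eq]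
    exact Dvd.intro _ rfl
  have hEd : Nat.card ↥E ∣ nM := by
    rw [← hn]
    exact ((card_subgroup_dvd_card E).trans hXd).mul_right n
  obtain ⟨g, hg, hr, hcard⟩ := exists_good TB (hS ↥E) hna valid_lM hEd
  have hok := List.all_eq_true.1 okN_all g hg
  -- `X ≤ Aut E`
  have hinj : Function.Injective (MulAut.conjNormal : X →* MulAut ↥E) := by
    rw [injective_iff_map_eq_one]
    intro a ha
    have h1 : a ∈ centralizer (E : Set X) := by
      rw [mem_centralizer_iff]
      intro t ht
      have h2 := congrArg (fun φ : MulAut ↥E => ((φ ⟨t, ht⟩ : ↥E) : X)) ha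
      simp only [MulAut.conjNormal_apply, MulAut.one_apply] at h2
      rw [mul_inv_eq_iff_eq_mul] at h2
      exact h2.symm
    rwa [hEc, mem_bot] at h1
  have hXA : Nat.card X ∣ Nat.card (Cfsg.Out ↥E) * Nat.card ↥E :=
    (card_dvd_of_injective _ hinj).trans (card_mulAut_dvd _)
  have hidx : Nat.card ↥E * E.index = Nat.card X := E.card_mul_index
  have hio : E.index ∣ Nat.card (Cfsg.Out ↥E) := by
    rw [← hidx, mul_comm] at hXA
    exact Nat.dvd_of_mul_dvd_mul_right Nat.card_pos hXA
  have hX121 : 11 ^ 2 ∣ Nat.card X := by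
    obtain ⟨P⟩ : Nonempty (Sylow 11 X) := inferInstance
    rw [← H.card_sylow_quot P]
    exact card_subgroup_dvd_card _
  have hm11 : ordN g % 11 = 0 := by rw [← hcard]; exact Nat.mod_eq_zero_of_dvd h11
  unfold okN at hok
  rw [hm11, if_pos (by decide)] at hok
  by_cases h121 : ordN g % 121 = 0
  · rw [h121, if_pos (by decide), Bool.or_eq_true, Nat.beq_eq, Bool.and_eq_true, Bool.and_eq_true, Bool.and_eq_true] at hok
    rcases hok with h | ⟨h1, h5, h6, h2⟩
    · -- the Monster
      have h3 : nM ∣ Nat.card K := by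
        rw [← h, ← hcard]
        exact (card_subgroup_dvd_card E).trans hXd
      have h4 : Nat.card K = nM := Nat.dvd_antisymm (Dvd.intro _ hn) h3
      rw [h4] at hn
      exact hne (Nat.eq_of_mul_eq_mul_left (by decide +kernel : 0 < nM) (hn.trans (mul_one nM).symm))
    · have hk := hio.trans (out_dvd hna hr h1)
      have hkk : kk g ≠ 0 ∧ kk g ≤ 96 := by
        refine ⟨fun h => ?_, Nat.le_of_ble_eq_true h6⟩
        rw [h] at h5
        exact absurd h5 (by decide)
      have hk0 : E.index ≠ 0 := fun h => hkk.1 (by rw [h] at hk; exact Nat.eq_zero_of_zero_dvd hk)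
      have h3 := List.all_eq_true.1 h2 E.index (List.mem_range.2 (by
        have := Nat.le_of_dvd (Nat.pos_of_ne_zero hkk.1) hk
        omega))
      rw [Nat.mod_eq_zero_of_dvd hk] at h3
      have h4 : Nat.beq E.index 0 = false := by
        rw [← Bool.not_eq_true, Nat.beq_eq]
        exact hk0
      rw [h4, ← hcard, hidx] at h3
      exact H.false_of h3
  · have h1 : Nat.beq (ordN g % 121) 0 = false := by
      rw [← Bool.not_eq_true, Nat.beq_eq]
      exact h121
    rw [h1, if_neg (by decide)] at hok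
    have h2 := H154.OutList.not_dvd_out TB hna (r := 11) (by norm_num) (by norm_num) hr hok
    apply h2
    refine dvd_trans ?_ hio
    by_contra hcon
    have h3 : (11 ^ 2).Coprime E.index := Nat.Coprime.pow_left 2 ((Nat.Prime.coprime_iff_not_dvd (by norm_num)).2 hcon)
    rw [← hidx] at hX121
    have h4 := h3.dvd_of_dvd_mul_right hX121
    rw [hcard] at h4
    exact h121 (Nat.mod_eq_zero_of_dvd h4)

/-- **No group satisfies `Hyp`.** -/
theorem Hyp.false (TB : OrderTable.{0})
    (hS : ∀ (X : Type) [Group X] [Finite X] [IsSimpleGroup X], IsKnownSimple' X) (H : Hyp K) : False := by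
  have hp : Fact (Nat.Prime 11) := ⟨by norm_num⟩
  have hVn := Cores.pPrimeCore_normal (G := K) 11
  have hVc := Cores.pPrimeCore_coprime (G := K) 11
  have h1 : 11 ∣ Nat.card (K ⧸ pPrimeCore 11 K) := by
    obtain ⟨P⟩ : Nonempty (Sylow 11 (K ⧸ pPrimeCore 11 K)) := inferInstance
    have h2 := card_subgroup_dvd_card (P : Subgroup (K ⧸ pPrimeCore 11 K))
    rw [H.card_sylow_quot P] at h2
    exact (by norm_num : 11 ∣ 11 ^ 2).trans h2
  rcases struct (p := 11) (X := K ⧸ pPrimeCore 11 K) (fun K _ _ h => Cfsg.Agent.S0205.result h)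
    (Cores.pPrimeCore_quotient_pPrimeCore 11) H.pCore_bot h1 (H.f2.quot Nat.prime_two _ hVc) with h | h
  · exact H.not_one TB hS h
  · exact H.not_two TB hS h

end Cfsg.Agent.H746.MEleven
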